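import Mathlib.CategoryTheory.Abelian.Refinements
import Mathlib.Algebra.Homology.ShortComplex.Abelian
import Mathlib.CategoryTheory.Subobject.Limits
import Mathlib.CategoryTheory.Abelian.Basic
import Mathlib.Algebra.Homology.ShortComplex.ShortExact

/-!
Sections and completions of a 3 × 3 diagram.
-/

set_option autoImplicit false

universe v u

open CategoryTheory CategoryTheory.Limits

namespace Groth.Agent.Lib.ThreeByThree51

variable {C : Type u} [Category.{v} C] [Abelian C] {A₁ A₂ A₃ B B₂ C₁ C₂ C₃ : C}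

/-- The quotient row of a completion. -/
theorem quotient_row {i₁ : A₁ ⟶ A₂} {p₁ : A₂ ⟶ A₃} {wA : i₁ ≫ p₁ = 0}
    (hA : (ShortComplex.mk i₁ p₁ wA).ShortExact)
    {i₂ : A₂ ⟶ B₂} {π₂ : B₂ ⟶ C₂} {wB : i₂ ≫ π₂ = 0} (hB : (ShortComplex.mk i₂ π₂ wB).ShortExact)
    {j : C₁ ⟶ C₂} {q : C₂ ⟶ C₃} {wC : j ≫ q = 0} (hC : (ShortComplex.mk j q wC).ShortExact)
    (b : B ⟶ B₂) (a : A₁ ⟶ B) (c : B ⟶ C₁) {wac : a ≫ c = 0}
    (hab : a ≫ b = i₁ ≫ i₂) (hcj : c ≫ j = b ≫ π₂) (hac : (ShortComplex.mk a c wac).ShortExact) :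
    ∃ (a' : A₃ ⟶ cokernel b) (c' : cokernel b ⟶ C₃) (wac' : a' ≫ c' = 0),
      p₁ ≫ a' = i₂ ≫ cokernel.π b ∧ cokernel.π b ≫ c' = π₂ ≫ q ∧
        (ShortComplex.mk a' c' wac').ShortExact := by
  have : Epi p₁ := hA.epi_g
  have : Mono i₂ := hB.mono_f
  have : Epi π₂ := hB.epi_g
  have : Mono j := hC.mono_f
  have : Epi q := hC.epi_g
  have : Epi c := hac.epi_g
  have h1 : i₁ ≫ i₂ ≫ cokernel.π b = 0 := by
    rw [← Category.assoc, ← hab, Category.assoc, cokernel.condition, comp_zero]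
  obtain ⟨a', ha'⟩ : ∃ a' : A₃ ⟶ cokernel b, p₁ ≫ a' = i₂ ≫ cokernel.π b :=
    CokernelCofork.IsColimit.desc' hA.gIsCokernel (i₂ ≫ cokernel.π b) h1 |>.exists_of_subtype
  let c' : cokernel b ⟶ C₃ := cokernel.desc b (π₂ ≫ q) (by rw [← reassoc_of% hcj, wC, comp_zero])
  have hc' : cokernel.π b ≫ c' = π₂ ≫ q := cokernel.π_desc _ _ _
  have wac' : a' ≫ c' = 0 := by
    rw [← cancel_epi p₁, reassoc_of% ha', hc', reassoc_of% wB, zero_comp, comp_zero]
  refine ⟨a', c', wac', ha', hc', ?_⟩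
  have hmono : Mono a' := by
    refine Preadditive.mono_of_cancel_zero a' fun {T} x hx => ?_
    obtain ⟨T₁, e₁, _, y, hy⟩ := surjective_up_to_refinements_of_epi p₁ x
    have h2 : (y ≫ i₂) ≫ cokernel.π b = 0 := by
      rw [Category.assoc, ← ha', ← reassoc_of% hy, hx, comp_zero]
    obtain ⟨T₂, e₂, _, z, hz⟩ := (ShortComplex.exact_of_g_is_cokernel (ShortComplex.mk b (cokernel.π b) (cokernel.condition b)) (cokernelIsCokernel b)).exact_up_to_refinements (y ≫ i₂) h2
    dsimp at hz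
    have h3 : z ≫ c = 0 := by
      rw [← cancel_mono j, Category.assoc, hcj, ← reassoc_of% hz, wB, comp_zero, comp_zero, zero_comp]
    obtain ⟨T₃, e₃, _, w, hw⟩ := hac.exact.exact_up_to_refinements z h3
    dsimp at hw
    have h4 : e₃ ≫ e₂ ≫ y = w ≫ i₁ := by
      rw [← cancel_mono i₂]
      simp only [Category.assoc]
      rw [hz, reassoc_of% hw, hab]
    rw [← cancel_epi e₁, ← cancel_epi e₂, ← cancel_epi e₃, hy, reassoc_of% h4, wA]
    simp
  have hepi : Epi c' := by
    have : Epi (cokernel.π b ≫ c') := by rw [hc']; infer_instance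
    exact epi_of_epi (cokernel.π b) c'
  refine { exact := ?_, mono_f := hmono, epi_g := hepi }
  rw [ShortComplex.exact_iff_exact_up_to_refinements]
  intro T t ht
  dsimp at t ht ⊢
  obtain ⟨T₁, e₁, _, u, hu⟩ := surjective_up_to_refinements_of_epi (cokernel.π b) t
  have h2 : (u ≫ π₂) ≫ q = 0 := by
    rw [Category.assoc, ← hc', ← reassoc_of% hu, ht, comp_zero]
  obtain ⟨T₂, e₂, _, v, hv⟩ := hC.exact.exact_up_to_refinements (u ≫ π₂) h2
  dsimp at hv
  obtain ⟨T₃, e₃, _, z, hz⟩ := surjective_up_to_refinements_of_epi c v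
  have h3 : (e₃ ≫ e₂ ≫ u - z ≫ b) ≫ π₂ = 0 := by
    rw [Preadditive.sub_comp]
    simp only [Category.assoc]
    rw [hv, ← hcj, reassoc_of% hz, sub_self]
  obtain ⟨T₄, e₄, _, y, hy⟩ := hB.exact.exact_up_to_refinements _ h3
  dsimp at hy
  refine ⟨T₄, e₄ ≫ e₃ ≫ e₂ ≫ e₁, inferInstance, y ≫ p₁, ?_⟩
  simp only [Category.assoc]
  rw [hu, ha', ← reassoc_of% hy, Preadditive.sub_comp]
  simp

variable {α : A₁ ⟶ B₂} {β : B₂ ⟶ C₃} {w : α ≫ β = 0}

/-- The subobject of a section. -/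
noncomputable def sectionSub (s : C₁ ⟶ (ShortComplex.mk α β w).homology) : Subobject B₂ :=
  (Subobject.map (ShortComplex.mk α β w).iCycles).obj
    ((Subobject.pullback (ShortComplex.mk α β w).homologyπ).obj (imageSubobject s))

lemma sectionSub_eq (s : C₁ ⟶ (ShortComplex.mk α β w).homology) [Mono s] :
    sectionSub s = Subobject.mk (pullback.fst (ShortComplex.mk α β w).homologyπ s ≫
      (ShortComplex.mk α β w).iCycles) := by
  rw [sectionSub, imageSubobject_mono,
    Subobject.pullback_obj_mk (IsPullback.of_hasPullback _ s).flip, Subobject.map_mk]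

variable {π₂ : B₂ ⟶ C₂} {h₃ : α ≫ π₂ = 0} {j : C₁ ⟶ C₂}
  {g : (ShortComplex.mk α β w).homology ⟶ C₁}
  (hg : g ≫ j = (ShortComplex.mk α β w).homologyι ≫ (ShortComplex.mk α β w).descOpcycles π₂ h₃)
include hg

lemma π_g_j : (ShortComplex.mk α β w).homologyπ ≫ g ≫ j = (ShortComplex.mk α β w).iCycles ≫ π₂ := by
  rw [hg, ShortComplex.homology_π_ι_assoc, ShortComplex.p_descOpcycles]

lemma snd_j {s : C₁ ⟶ (ShortComplex.mk α β w).homology} (hs : s ≫ g = 𝟙 C₁) :
    pullback.snd (ShortComplex.mk α β w).homologyπ s ≫ j =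
      (pullback.fst (ShortComplex.mk α β w).homologyπ s ≫ (ShortComplex.mk α β w).iCycles) ≫ π₂ := by
  rw [Category.assoc, ← π_g_j hg, pullback.condition_assoc, reassoc_of% hs]

/-- A section gives a first row. -/
theorem exists_row [Mono α] (s : C₁ ⟶ (ShortComplex.mk α β w).homology) (hs : s ≫ g = 𝟙 C₁) :
    ∃ (B₁ : C) (b : B₁ ⟶ B₂) (_ : Mono b) (a : A₁ ⟶ B₁) (c : B₁ ⟶ C₁) (wac : a ≫ c = 0),
      sectionSub s = Subobject.mk b ∧ a ≫ b = α ∧ c ≫ j = b ≫ π₂ ∧
        (ShortComplex.mk a c wac).ShortExact := by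
  let S := ShortComplex.mk α β w
  haveI : Mono s := SplitMono.mono ⟨g, hs⟩
  let a : A₁ ⟶ pullback S.homologyπ s := pullback.lift S.toCycles 0 (by
    rw [zero_comp]; exact S.toCycles_comp_homologyπ)
  have ha : a ≫ pullback.fst S.homologyπ s ≫ S.iCycles = α := by
    rw [pullback.lift_fst_assoc, ShortComplex.toCycles_i]
  have wac : a ≫ pullback.snd S.homologyπ s = 0 := pullback.lift_snd _ _ _
  refine ⟨_, pullback.fst S.homologyπ s ≫ S.iCycles, inferInstance, a, pullback.snd S.homologyπ s,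
    wac, sectionSub_eq s, ha, snd_j hg hs, ?_⟩
  have : Mono a := by
    have : Mono (a ≫ pullback.fst S.homologyπ s ≫ S.iCycles) := by rw [ha]; assumption
    exact mono_of_mono a (pullback.fst S.homologyπ s ≫ S.iCycles)
  refine { exact := ?_, mono_f := inferInstance, epi_g := inferInstance }
  rw [ShortComplex.exact_iff_exact_up_to_refinements]
  intro T x hx
  dsimp at x hx ⊢
  have h1 : (x ≫ pullback.fst S.homologyπ s) ≫ S.homologyπ = 0 := by
    rw [Category.assoc, pullback.condition, reassoc_of% hx, zero_comp]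
  obtain ⟨T₁, e, he, y, hy⟩ :=
    (ShortComplex.exact_of_g_is_cokernel (ShortComplex.mk _ _ S.toCycles_comp_homologyπ)
      S.homologyIsCokernel).exact_up_to_refinements _ h1
  refine ⟨T₁, e, he, y, pullback.hom_ext ?_ ?_⟩
  · rw [Category.assoc, Category.assoc, pullback.lift_fst]
    exact hy
  · rw [Category.assoc, Category.assoc, hx, wac, comp_zero, comp_zero]

/-- A first row comes from a section. -/
theorem exists_section [Mono j] (B₁ : Subobject B₂) (a : A₁ ⟶ (B₁ : C)) (c : (B₁ : C) ⟶ C₁)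
    (wac : a ≫ c = 0) (hab : a ≫ B₁.arrow = α) (hcj : c ≫ j = B₁.arrow ≫ π₂)
    (hβ : B₁.arrow ≫ β = 0) (hac : (ShortComplex.mk a c wac).ShortExact) :
    ∃ s : C₁ ⟶ (ShortComplex.mk α β w).homology, s ≫ g = 𝟙 C₁ ∧ sectionSub s = B₁ := by
  let S := ShortComplex.mk α β w
  have : Epi c := hac.epi_g
  let b₀ : (B₁ : C) ⟶ S.cycles := S.liftCycles B₁.arrow hβ
  have hb₀ : b₀ ≫ S.iCycles = B₁.arrow := S.liftCycles_i _ _
  have hab₀ : a ≫ b₀ = S.toCycles := by
    rw [← cancel_mono S.iCycles, Category.assoc, hb₀, ShortComplex.toCycles_i]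
    exact hab
  obtain ⟨s, hs⟩ : ∃ s : C₁ ⟶ S.homology, c ≫ s = b₀ ≫ S.homologyπ :=
    CokernelCofork.IsColimit.desc' hac.gIsCokernel (b₀ ≫ S.homologyπ) (by
      rw [reassoc_of% hab₀]; exact S.toCycles_comp_homologyπ) |>.exists_of_subtype
  have hsg : s ≫ g = 𝟙 C₁ := by
    rw [← cancel_epi c, ← cancel_mono j, Category.comp_id, Category.assoc, Category.assoc,
      reassoc_of% hs, π_g_j hg, reassoc_of% hb₀, hcj]
  refine ⟨s, hsg, ?_⟩
  haveI : Mono s := SplitMono.mono ⟨g, hsg⟩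
  let l : (B₁ : C) ⟶ pullback S.homologyπ s := pullback.lift b₀ c hs.symm
  have hl : l ≫ pullback.fst S.homologyπ s ≫ S.iCycles = B₁.arrow := by
    rw [pullback.lift_fst_assoc, hb₀]
  have : Mono l := by
    have : Mono (l ≫ pullback.fst S.homologyπ s ≫ S.iCycles) := by rw [hl]; infer_instance
    exact mono_of_mono l (pullback.fst S.homologyπ s ≫ S.iCycles)
  have : Epi l := by
    rw [epi_iff_surjective_up_to_refinements]
    intro T x
    obtain ⟨T₁, e₁, he₁, v, hv⟩ := surjective_up_to_refinements_of_epi c (x ≫ pullback.snd S.homologyπ s)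
    have h1 : (e₁ ≫ x ≫ pullback.fst S.homologyπ s - v ≫ b₀) ≫ S.homologyπ = 0 := by
      rw [Preadditive.sub_comp]
      simp only [Category.assoc]
      rw [pullback.condition, ← hs, reassoc_of% hv, sub_self]
    obtain ⟨T₂, e₂, he₂, y, hy⟩ :=
      (ShortComplex.exact_of_g_is_cokernel (ShortComplex.mk _ _ S.toCycles_comp_homologyπ)
        S.homologyIsCokernel).exact_up_to_refinements _ h1
    dsimp at hy
    refine ⟨T₂, e₂ ≫ e₁, inferInstance, e₂ ≫ v + y ≫ a, pullback.hom_ext ?_ ?_⟩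
    · simp only [Category.assoc, Preadditive.add_comp, l, pullback.lift_fst, hab₀, ← hy,
        Preadditive.comp_sub]
      abel
    · simp only [Category.assoc, Preadditive.add_comp, l, pullback.lift_snd, wac, comp_zero, add_zero, ← hv]
  have : IsIso l := isIso_of_mono_of_epi l
  rw [sectionSub_eq s]
  exact (Subobject.mk_eq_mk_of_comm _ _ (asIso l) hl).symm.trans (Subobject.mk_arrow B₁)

/-- The section is determined by its subobject. -/
theorem section_ext [Mono j] (s s' : C₁ ⟶ (ShortComplex.mk α β w).homology) (hs : s ≫ g = 𝟙 C₁)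
    (hs' : s' ≫ g = 𝟙 C₁) (h : sectionSub s = sectionSub s') : s = s' := by
  let S := ShortComplex.mk α β w
  haveI : Mono s := SplitMono.mono ⟨g, hs⟩
  haveI : Mono s' := SplitMono.mono ⟨g, hs'⟩
  rw [sectionSub_eq s, sectionSub_eq s'] at h
  let e := Subobject.isoOfMkEqMk _ _ h
  have he : e.hom ≫ pullback.fst S.homologyπ s' ≫ S.iCycles = pullback.fst S.homologyπ s ≫ S.iCycles :=
    Subobject.ofMkLEMk_comp _
  have hsnd : e.hom ≫ pullback.snd S.homologyπ s' = pullback.snd S.homologyπ s := by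
    rw [← cancel_mono j, Category.assoc, snd_j hg hs', snd_j hg hs, ← Category.assoc, he]
  have hfst : e.hom ≫ pullback.fst S.homologyπ s' = pullback.fst S.homologyπ s := by
    rw [← cancel_mono S.iCycles, Category.assoc, he]
  haveI : Epi (pullback.snd S.homologyπ s) := inferInstance
  rw [← cancel_epi (pullback.snd S.homologyπ s), ← pullback.condition, ← hfst, Category.assoc,
    pullback.condition, reassoc_of% hsnd]

end Groth.Agent.Lib.ThreeByThree51
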